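import Cfsg.Agent.RuS.Main
import Cfsg.Agent.Len.Simple

/-! Standard `Sz(8)` with `|R| = 2`: the squaring map and the set `D ∩ W`. -/

set_option autoImplicit false
set_option linter.unusedSectionVars false

namespace Cfsg.Agent.RuS

open Subgroup Cfsg.Agent.PLocal.Amb Cfsg.Agent.Comp

/-- the prime field -/
def P2 (m : 𝔽) : Prop := m = 0 ∨ m = 1
instance instDecP2 : DecidablePred P2 := fun m => inferInstanceAs (Decidable (m = 0 ∨ m = 1))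

def TW2 : ℕ := 0x6599080622502010000026000001084c998804000015800000341305d2010000052120003800000034000001580000032000000e0000007800000080e91cc80500232010000076000001400000060136632015314c80400001880000026000001080000052400001900000052000000880000074000000807315080400001206a1488056270201000005400000088000002a2507b2010000072000001d00000032190003000000048000000a800000540000008000000401c46a201bb19c80662622010000036000000c04d1dc80400001080000032000001880000074000000880000032400001600000034000000800000076000001886f9688040000090a69ac805802020100000661306f201000002400000198000005200000110000007224000280000003c000000800000046000001c0000002025a752017215480542752014e19480400000880000072400000d0000007200000108000004a00000188000003800000080799ec805a27f2019e1ac805a46d20155174805285b20152920805a04920100000440000008800000360000018800000680000010858000900000008000000781a811201000005415a712010000044180212010000000000000000000010000000d1000001000000191000001000000161600208040000080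

/-- the test passed by conjugates of `t` -/
def Ts2 (κ ν : 𝔽) (d : 𝕍) : Prop :=
  (∀ u : 𝕍, P2 u.1 → Bf κ ν d u = 0 → (Qf κ ν u = 0 ∨ ∀ v : 𝕍, P2 v.1 → Bf κ ν d v = 0 → Bf κ ν u v = 0) →
    u = 0 ∨ u = d) ∧
  ∀ y (u u' : 𝕍), y ≠ 0 → P2 u.1 → P2 u'.1 → u ≠ u' → Qf κ ν u = 0 → Qf κ ν u' = 0 → Bf κ ν d u = Bf κ ν d u' →
    Bf κ ν d u ≠ 0 → ∃ v v' : 𝕍, P2 v.1 ∧ P2 v'.1 ∧ v ≠ v' ∧ Qf κ ν v = 0 ∧ Qf κ ν v' = 0 ∧ Bf κ ν d v = y ∧
      Bf κ ν d v' = y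

/-- witnesses against the test -/
def bad2 (κ m a : 𝔽) : Prop :=
  let ν := a ^ 5 + κ * a ^ 2 + m
  let n := TW2 >>> (30 * (16 * κ.1 + 8 * m.1 + a.1))
  (P2 (vc n).1 ∧ Bf κ ν (m, a, 1) (vc n) = 0 ∧ vc n ≠ 0 ∧ vc n ≠ (m, a, 1) ∧ (Qf κ ν (vc n) = 0 ∨
    ∀ m', P2 m' → ∀ a' x', Bf κ ν (m, a, 1) (m', a', x') = 0 → Bf κ ν (vc n) (m', a', x') = 0)) ∨
  (GF8.c (n >>> 27) ≠ 0 ∧ P2 (vc n).1 ∧ P2 (vc (n >>> 9)).1 ∧ vc n ≠ vc (n >>> 9) ∧ Qf κ ν (vc n) = 0 ∧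
    Qf κ ν (vc (n >>> 9)) = 0 ∧ Bf κ ν (m, a, 1) (vc n) = Bf κ ν (m, a, 1) (vc (n >>> 9)) ∧
    Bf κ ν (m, a, 1) (vc n) ≠ 0 ∧ ∀ m', P2 m' → ∀ a' x', Qf κ ν (m', a', x') = 0 →
      Bf κ ν (m, a, 1) (m', a', x') = GF8.c (n >>> 27) → (m', a', x') = vc (n >>> 18))

set_option synthInstance.maxSize 2000 in
theorem ts2 {κ ν m a : 𝔽} (hm : P2 m) (hq : Qf κ ν (m, a, 1) = 0) (h : Ts2 κ ν (m, a, 1)) :
    κ = 0 ∧ m = 1 ∧ P2 ν := by
  have k : ∀ κ m a : 𝔽, P2 m → (κ = 0 ∧ m = 1 ∧ P2 (a ^ 5 + κ * a ^ 2 + m)) ∨ bad2 κ m a := by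
    unfold bad2; decide +kernel
  obtain rfl : ν = a ^ 5 + κ * a ^ 2 + m := by
    simp only [Qf] at hq
    linear_combination hq - (a ^ 5 + κ * a ^ 2 + m) * two0
  refine (k κ m a hm).resolve_right ?_
  rintro (⟨h1, h2, h3, h4, h5⟩ | ⟨h1, h2, h3, h4, h5, h6, h7, h8, h9⟩)
  · exact (h.1 _ h1 h2 (h5.imp_right fun e v hv => e v.1 hv v.2.1 v.2.2)).elim h3 h4
  · obtain ⟨v, v', a1, a2, a3, a4, a5, a6, a7⟩ := h.2 _ _ _ h1 h2 h3 h4 h5 h6 h7 h8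
    exact a3 ((h9 v.1 a1 v.2.1 v.2.2 a4 a6).trans (h9 v'.1 a2 v'.2.1 v'.2.2 a5 a7).symm)

theorem Bt (κ ν : 𝔽) (v : 𝕍) : Bf κ ν (1, 0, 0) v = v.2.2 := by simp [Bf_eq, B0]

theorem B0_nd : ∀ a : 𝔽, B0 a 1 = 0 → B0 a 𝐥 = 0 → a = 0 := by decide +kernel

variable {G : Type*} [Group G] [Finite G] {A R W E S : Subgroup G} {τ : 𝔽 → 𝔽 → G} {h k t : G} {μ ω : G → 𝔽}
  {cd : G → 𝕍} {κ ν : 𝔽}

structure C5 (A R W : Subgroup G) (τ : 𝔽 → 𝔽 → G) (h k : G) (μ ω : G → 𝔽) (cd : G → 𝕍) (κ ν : 𝔽) (t : G) : Prop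
    extends CW A R W τ h k μ ω cd κ ν where
  tR : t ∈ R
  μt : μ t = 1
  r2 : ∀ r ∈ R, r = 1 ∨ r = t

namespace C5

variable (c : C5 A R W τ h k μ ω cd κ ν t)
include c

theorem hP : (fun m => ∃ r ∈ R, m = μ r) = P2 := funext fun m => propext
  ⟨fun ⟨r, hr, e⟩ => (c.r2 r hr).imp (fun e' => by rw [e, e', c.toCW.μ1]) fun e' => by rw [e, e', c.μt],
    fun e => e.elim (fun e => ⟨1, one_mem _, e.trans c.toCW.μ1.symm⟩) fun e => ⟨t, c.tR, e.trans c.μt.symm⟩⟩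

theorem p2 {w : G} (hw : w ∈ W) : P2 (cd w).1 := c.hP ▸ c.rng w hw
theorem su {v : 𝕍} (hv : P2 v.1) : ∃ w ∈ W, cd w = v := c.toCW.surj (by rw [← c.hP] at hv; exact hv)
theorem ctt : cd t = (1, 0, 0) := by rw [c.toCW.cr c.tR, c.μt]
theorem t1 : t ≠ 1 := fun e => one_ne_zero (by rw [← c.μt, e, c.toCW.μ1])
theorem tt : t * t = 1 := c.el t c.tR
theorem tD : InD A t := inD_of (c.hR.le c.tR) c.t1 c.tt
theorem tw : t ∈ W := c.toCW.rW c.tR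
theorem tS0 : t ∈ R ⊔ TT τ := mem_sup_left c.tR

theorem ct0 {x : G} (hx : x ∈ R ⊔ TT τ) : x * t = t * x := by
  obtain ⟨r, hr, a, b, rfl⟩ := (c.H.mem_S0 c.hR.le).1 hx
  rw [mul_assoc, c.H.kt (c.hR.le c.tR), ← mul_assoc, c.toC3.rc hr c.tR, mul_assoc]

theorem cS0 {P : Subgroup G} (hP : IsPGroup 2 P) (h1 : R ⊔ TT τ ≤ P) {x : G} (hx : x ∈ P) (e : x * t = t * x) :
    x ∈ R ⊔ TT τ := c.H.maxM c.hR hP h1 hx (c.H.cM (c.hR.le c.tR) c.t1 c.tt e)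

theorem eqt {d : G} (hD : InD A d) (hd : d ∈ R) : d = t := (c.r2 d hd).resolve_left hD.ne

theorem inZ {y : G} (hy : y ∈ R ⊔ TT τ) (h2 : y * y = 1) (hD : ¬ InD A y) : y ∈ ZZ τ := by
  by_contra h1
  exact hD (c.toCW.inV (c.toC3.mem_V.2 (c.toC3.invV hy h2)) h1)

theorem nVt {g : G} (h1 : ∀ b, g * τ 0 b * g⁻¹ ∈ R ⊔ ZZ τ) (h2 : g * t * g⁻¹ ∈ R ⊔ ZZ τ) : g ∈ 𝐍[R ⊔ ZZ τ] :=
  mem_normalizer_of_cj_le (cj_le_iff_forall.2 fun y hy => by
    obtain ⟨r, hr, b, rfl⟩ := c.toC3.mem_V.1 hy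
    rcases c.r2 r hr with rfl | rfl
    · rw [one_mul]; exact h1 b
    · rw [← conj_mul]; exact mul_mem h2 (h1 b))

theorem ts {d : G} (hd : d ∈ W) (hD : InD A d) : Ts2 κ ν (cd d) := by
  obtain ⟨g, hg, hr⟩ := c.toCW.exD hd hD
  have e := c.eqt (hD.conj g) hr
  have gW : ∀ {w}, w ∈ W → g * w * g⁻¹ ∈ W := fun hw => conj_mem_of_mem_normalizer hg hw
  refine ⟨fun u hu h1 h2 => ?_, fun y u u' hy hu hu' h1 h2 h3 h4 h5 => ?_⟩
  · obtain ⟨w, hw, rfl⟩ := c.su hu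
    have x0 : (cd (g * w * g⁻¹)).2.2 = 0 := by
      rw [← Bt κ ν, ← c.ctt, ← c.toCW.comm0 c.tw (gW hw), ← e, conj_mul, conj_mul, (c.toCW.comm0 hd hw).2 h1]
    have a0 : (cd (g * w * g⁻¹)).2.1 = 0 := by
      rcases h2 with h2 | h2
      · simpa [Qf, x0] using c.toCW.q0 (gW hw) (by rw [conj_mul, c.sq w hw, h2, c.H.one]; group)
      have k1 : ∀ b, B0 (cd (g * w * g⁻¹)).2.1 b = 0 := fun b => by
        have h3 := inv_conj_mem_of_mem_normalizer hg (c.toCW.tW b 0)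
        have h4 := (c.toCW.comm0 hw h3).2 (h2 _ (c.p2 h3) ((c.toCW.comm0 hd h3).1 (by
          rw [show d = g⁻¹ * t * g by rw [← e]; group]
          calc _ = g⁻¹ * (t * τ b 0) * g := by group
            _ = _ := by rw [← c.ct0 (c.tS b 0)]; group)))
        have := (c.toCW.comm0 (gW hw) (c.toCW.tW b 0)).1 (by
          calc _ = g * (w * (g⁻¹ * τ b 0 * g)) * g⁻¹ := by group
            _ = _ := by rw [h4]; group)
        simpa [Bf_eq, c.toCW.ct, x0] using this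
      exact B0_nd _ (k1 1) (k1 𝐥)
    refine (c.p2 (gW hw)).imp (fun e1 => ?_) fun e1 => c.toCW.cinj hg hw hd ?_
    · rw [← c.toCW.c1]
      exact c.toCW.cinj hg hw (one_mem _) (by
        rw [mul_one, mul_inv_cancel, c.toCW.c1]; exact Prod.ext e1 (Prod.ext a0 x0))
    · rw [e, c.ctt]; exact Prod.ext e1 (Prod.ext a0 x0)
  · obtain ⟨_, γ, H, -, hγ⟩ := c.toCW.au hg
    obtain ⟨a, ha⟩ := ex_p5 (γ y / γ (Bf κ ν (cd d) u))
    obtain ⟨n, hn, -, n1, -, n2⟩ := c.toCW.exk (e := a) fun e => div_ne_zero (H.γ0.not.2 hy) (H.γ0.not.2 h5) (by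
      rw [← ha, e]; simp)
    have hn' := mul_mem (mul_mem (inv_mem hg) hn) hg
    obtain ⟨Γ, δ, K, k1, k2⟩ := c.toCW.au hn'
    rw [c.hP] at K
    have k3 : Γ (cd d) = cd d := by
      rw [← k1 d hd, show g⁻¹ * n * g * d * (g⁻¹ * n * g)⁻¹ = g⁻¹ * (n * (g * d * g⁻¹) * n⁻¹) * g by group, n1 _ hr]
      group
    have k4 : δ (Bf κ ν (cd d) u) = y := c.H.zinj (by
      rw [← k2, show ∀ z, g⁻¹ * n * g * z * (g⁻¹ * n * g)⁻¹ = g⁻¹ * (n * (g * z * g⁻¹) * n⁻¹) * g from fun z => by group,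
        hγ, n2, ha, div_mul_cancel₀ _ (H.γ0.not.2 h5), ← hγ]
      group)
    refine ⟨Γ u, Γ u', K.dom u hu, K.dom u' hu', fun e => h1 ?_, by rw [K.Q u hu, h2, K.γ0], by rw [K.Q u' hu', h3, K.γ0],
      by rw [← k3, K.B (c.p2 hd) hu, k4], by rw [← k3, K.B (c.p2 hd) hu', ← h4, k4]⟩
    obtain ⟨w, hw, rfl⟩ := c.su hu
    obtain ⟨w', hw', rfl⟩ := c.su hu'
    exact c.toCW.cinj hn' hw hw' (by rw [k1 w hw, k1 w' hw', e])

theorem D2 {d : G} (hd : d ∈ W) (hD : InD A d) (x0 : (cd d).2.2 ≠ 0) : κ = 0 ∧ (cd d).1 = 1 ∧ P2 ν := by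
  obtain ⟨a, ha⟩ := ex_p5 (cd d).2.2⁻¹
  obtain ⟨y, hy, -, -, h2, -⟩ := c.toCW.exk (e := a) fun e => inv_ne_zero x0 (by rw [← ha, e]; simp)
  have h3 := conj_mem_of_mem_normalizer hy hd
  have h4 := c.ts h3 (hD.conj y)
  have h5 := c.toCW.q0 h3 (hD.conj y).sq
  rw [h2 d hd, Hc, ha, inv_mul_cancel₀ x0] at h4 h5
  exact ts2 (c.p2 hd) h5 h4

theorem Dm {d : G} (hd : d ∈ W) (hD : InD A d) : (cd d).1 = 1 := by
  by_cases x0 : (cd d).2.2 = 0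
  · refine (c.p2 hd).resolve_left fun e => ?_
    obtain ⟨b, rfl⟩ := c.H.mem_Z.1 ((c.toCW.kerZ hd).2 (Prod.ext e (Prod.ext (by
      simpa [Qf, x0] using c.toCW.q0 hd hD.sq) x0)))
    exact c.nD b hD
  · exact (c.D2 hd hD x0).2.1

theorem fin (hG : commutator G = ⊤) (hS : IsSyl 2 S ⊤) {M : Type*} [CommGroup M] (φ : S →* M) {a : M}
    (H : ∀ (g : G) (hg : cj(g, R ⊔ TT τ) ≤ S), φ ⟨g * t * g⁻¹, hg (conj_mem_cj g c.tS0)⟩ = a) : a = 1 :=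
  Len.transfer_ext hG (Nat.not_even_iff_odd.1 fun e => hS.not_dvd_relIndex (by
    rw [relIndex_top_right]; exact even_iff_two_dvd.1 e)) φ c.tt (c.H.sylS0 c.hR).pgrp (fun _ => c.ct0) c.tS0 H

theorem caseA (hG : commutator G = ⊤) : ∃ d ∈ W, InD A d ∧ d ∉ R ⊔ ZZ τ := by
  by_contra e
  push Not at e
  exact one_ne_zero (Multiplicative.ofAdd.injective (c.fin hG (c.toC4.syl_top e) (a := Multiplicative.ofAdd (1 : 𝔽))
    (MonoidHom.mk' (fun w => Multiplicative.ofAdd (cd w).1) fun a b => by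
      rw [← ofAdd_add, coe_mul, c.add _ a.2 _ b.2]; rfl)
    fun g hg => congrArg Multiplicative.ofAdd (c.Dm (hg (conj_mem_cj g c.tS0)) (c.tD.conj g))))

end C5

theorem C5.DI (c : C5 A R W τ h k μ ω cd 0 ν t) (e : ∃ d ∈ W, InD A d ∧ d ∉ R ⊔ ZZ τ) {y : G} (hy : y ∈ W)
    (h2 : y * y = 1) (h1 : (cd y).1 = 1) : InD A y := by
  have q := c.toCW.q0 hy h2
  by_cases x0 : (cd y).2.2 = 0
  · exact c.toCW.inV ((c.toCW.kerV hy).2 ⟨by simpa [Qf, x0] using q, x0⟩) fun e => one_ne_zero (by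
      rw [← h1, (c.toCW.kerZ hy).1 e]; rfl)
  obtain ⟨d, hd, hD, e⟩ := c.toCW.exD1 e
  obtain ⟨a, ha⟩ := ex_p5 (cd y).2.2
  obtain ⟨x, hx, -, -, h6, -⟩ := c.toCW.exk (e := a) fun e => x0 (by rw [← ha, e]; simp)
  have hd' := conj_mem_of_mem_normalizer hx hd
  have h7 : cd y = cd (x * d * x⁻¹) := by
    have q' := c.toCW.q0 hd hD.sq
    rw [h6 d hd, Hc, e, c.Dm hd hD, ha, mul_one]
    refine Prod.ext h1 (Prod.ext ((by decide +kernel : ∀ a b : 𝔽, a ^ 5 = b ^ 5 → a = b) _ _ ?_) rfl)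
    simp only [Qf, h1, e, c.Dm hd hD, ← ha] at q q' ⊢
    linear_combination q - a ^ 5 * q'
  obtain ⟨b, rfl⟩ := c.toCW.ker hy hd' h7
  obtain ⟨u, hu, e1⟩ := c.su (v := (0, 0, b)) (Or.inl rfl)
  have := (hD.conj x).conj u
  rw [c.toCW.comm' hu hd', e1, ← h7, Bf_eq, h1] at this
  simpa [B0] using this

end Cfsg.Agent.RuS
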